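import Groth.Agent.AssPointLib.Basic
import Groth.Agent.EGA2SymLib.FinSec
import Groth.Agent.KFlatLib.PullTensor
import Groth.Agent.MiscFlat6.TensorGG
import Groth.Agent.CurvLib.Line
import Groth.Agent.PicPnLib.BaseChange
import Mathlib.Algebra.Module.Submodule.Union

/-!
# A section of a base point free linear system which is regular for finitely many coherent modules
-/

set_option autoImplicit false

universe u

open CategoryTheory CategoryTheory.Limits AlgebraicGeometry TopologicalSpace Opposite

noncomputable section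

namespace RegSecLib

variable {V : Scheme.{u}}

/-- `F ⊗ τ` is injective when every associated point of `F` lies where `τ` generates. -/
theorem mono_tensor_of_weak (F L : V.Modules) [Coh.IsQCoh F] (hL : PicF.IsInvertible L)
    (τ : Coh.structureModule V ⟶ L)
    (hτ : ∀ x, Curv2.IsWeakAssPoint F x → x ∈ CohB1.genLocus L τ) :
    Mono (((DCoh.tensorBi (X := V)).obj F).map τ) := by
  let e : CohB1.tensorMod F (Coh.structureModule V) ≅ F := PicPnLib.unitRight F
  let φ := ((DCoh.tensorBi (X := V)).obj F).map τ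
  change Mono φ
  haveI : Coh.IsQCoh (((DCoh.tensorBi (X := V)).obj F).obj (Coh.structureModule V)) :=
    MiscFlat6.isQCoh_tensor CurvLib.isInvertible_structureModule
  haveI : Coh.IsQCoh (((DCoh.tensorBi (X := V)).obj F).obj L) := MiscFlat6.isQCoh_tensor hL
  haveI : Coh.IsQCoh (kernel φ) := QCohLib.isQCoh_kernel φ
  refine Preadditive.mono_of_kernel_zero (zero_of_source_iso_zero _ (IsZero.isoZero ?_))
  refine AssPointLib.isZero_iff_no_weak.2 fun x hx => ?_
  have hS : (ShortComplex.mk (kernel.ι φ ≫ e.hom) (cokernel.π (kernel.ι φ ≫ e.hom)) (cokernel.condition _)).ShortExact :=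
    ShortComplex.ShortExact.mk (ShortComplex.exact_cokernel _)
  obtain ⟨U', hU, hxU⟩ := Opens.mem_sSup.1 (hτ x ((AssPointLib.weak_shortExact hS).2 hx))
  let U : V.Opens := U'
  have hU' : IsIso ((Scheme.Modules.restrictFunctor U.ι).map τ) := hU
  haveI : IsIso ((Scheme.Modules.pullback U.ι).map τ) :=
    (NatIso.isIso_map_iff (Scheme.Modules.restrictFunctorIsoPullback U.ι) τ).1 hU'
  haveI : IsIso ((Scheme.Modules.pullback U.ι).map φ) := by
    have h := KFlatLib.pullθ_natural_right U.ι F τ
    exact IsIso.of_isIso_fac_right h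
  haveI : IsIso ((Scheme.Modules.restrictFunctor U.ι).map φ) :=
    (NatIso.isIso_map_iff (Scheme.Modules.restrictFunctorIsoPullback U.ι) φ).2 inferInstance
  have h0 : (Scheme.Modules.restrictFunctor U.ι).map (kernel.ι φ) = 0 := by
    rw [← cancel_mono ((Scheme.Modules.restrictFunctor U.ι).map φ), ← Functor.map_comp, kernel.condition,
      Functor.map_zero, zero_comp]
  have hz : IsZero ((kernel φ).restrict U.ι) := by
    haveI : Mono ((Scheme.Modules.restrictFunctor U.ι).map (kernel.ι φ)) := inferInstance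
    exact IsZero.of_mono_eq_zero _ h0
  have h' : (⟨x, hxU⟩ : U) ∈ CohB1.support ((kernel φ).restrict U.ι) := fun hs =>
    AssPointLib.weak_iff_mem_support hx (((Scheme.Modules.restrictStalkNatIso U.ι ⟨x, hxU⟩).app
      (kernel φ)).addCommGroupIsoToAddEquiv.toEquiv.subsingleton_congr.1 hs)
  rw [DevissLib.support_of_isZero hz] at h'
  exact h'.elim

/-- `τ ⊗ F` is injective when every associated point of `F` lies where `τ` generates. -/
theorem mono_tensor_left_of_weak (F L : V.Modules) [Coh.IsQCoh F] (hL : PicF.IsInvertible L)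
    (τ : Coh.structureModule V ⟶ L)
    (hτ : ∀ x, Curv2.IsWeakAssPoint F x → x ∈ CohB1.genLocus L τ) :
    Mono (((DCoh.tensorBi (X := V)).map τ).app F) := by
  let φ := ((DCoh.tensorBi (X := V)).map τ).app F
  let e : CohB1.tensorMod (Coh.structureModule V) F ≅ F := HilbPolyLib.unitLeft F
  change Mono φ
  haveI : Coh.IsQCoh (((DCoh.tensorBi (X := V)).obj (Coh.structureModule V)).obj F) :=
    QCohLib.isQCoh_of_iso e.symm
  haveI : Coh.IsQCoh (((DCoh.tensorBi (X := V)).obj L).obj F) :=
    @QCohLib.isQCoh_of_iso _ _ _ (HilbPolyLib.swapIso F L) (MiscFlat6.isQCoh_tensor hL)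
  haveI : Coh.IsQCoh (kernel φ) := QCohLib.isQCoh_kernel φ
  refine Preadditive.mono_of_kernel_zero (zero_of_source_iso_zero _ (IsZero.isoZero ?_))
  refine AssPointLib.isZero_iff_no_weak.2 fun x hx => ?_
  have hS : (ShortComplex.mk (kernel.ι φ ≫ e.hom) (cokernel.π (kernel.ι φ ≫ e.hom)) (cokernel.condition _)).ShortExact :=
    ShortComplex.ShortExact.mk (ShortComplex.exact_cokernel _)
  obtain ⟨U', hU, hxU⟩ := Opens.mem_sSup.1 (hτ x ((AssPointLib.weak_shortExact hS).2 hx))
  let U : V.Opens := U'
  have hU' : IsIso ((Scheme.Modules.restrictFunctor U.ι).map τ) := hU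
  haveI : IsIso ((Scheme.Modules.pullback U.ι).map τ) :=
    (NatIso.isIso_map_iff (Scheme.Modules.restrictFunctorIsoPullback U.ι) τ).1 hU'
  haveI : IsIso ((Scheme.Modules.pullback U.ι).map φ) := by
    have h := KFlatLib.pullθ_natural_left U.ι τ F
    exact IsIso.of_isIso_fac_right h
  haveI : IsIso ((Scheme.Modules.restrictFunctor U.ι).map φ) :=
    (NatIso.isIso_map_iff (Scheme.Modules.restrictFunctorIsoPullback U.ι) φ).2 inferInstance
  have h0 : (Scheme.Modules.restrictFunctor U.ι).map (kernel.ι φ) = 0 := by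
    rw [← cancel_mono ((Scheme.Modules.restrictFunctor U.ι).map φ), ← Functor.map_comp, kernel.condition,
      Functor.map_zero, zero_comp]
  have hz : IsZero ((kernel φ).restrict U.ι) := by
    haveI : Mono ((Scheme.Modules.restrictFunctor U.ι).map (kernel.ι φ)) := inferInstance
    exact IsZero.of_mono_eq_zero _ h0
  have h' : (⟨x, hxU⟩ : U) ∈ CohB1.support ((kernel φ).restrict U.ι) := fun hs =>
    AssPointLib.weak_iff_mem_support hx (((Scheme.Modules.restrictStalkNatIso U.ι ⟨x, hxU⟩).app
      (kernel φ)).addCommGroupIsoToAddEquiv.toEquiv.subsingleton_congr.1 hs)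
  rw [DevissLib.support_of_isZero hz] at h'
  exact h'.elim

/-- At any point some combination of generators stays a generator, and the bad coefficients form a submodule. -/
theorem exists_bad_submodule {A : Type u} [CommRing A] [IsLocalRing A] (f : V ⟶ Spec (CommRingCat.of A))
    {L : V.Modules} (hL : PicF.IsInvertible L) {N : ℕ} (s : Fin (N + 1) → Γ(L, (⊤ : V.Opens)))
    (x : V) (hgen : ∃ i, AmpleLib.GenAt L (s i) (show x ∈ (⊤ : V.Opens) from trivial)) :
    ∃ S : Submodule A (Fin (N + 1) → A), S ≠ ⊤ ∧ ∀ a ∉ S,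
      AmpleLib.GenAt L (∑ i, f.appTop ((Scheme.ΓSpecIso (CommRingCat.of A)).inv (a i)) • s i)
        (show x ∈ (⊤ : V.Opens) from trivial) := by
  obtain ⟨j, hj⟩ := hgen
  let R := V.presheaf.stalk x
  let ρ₀ : A →+* R := ((V.presheaf.germ ⊤ x trivial).hom.comp f.appTop.hom).comp
    (Scheme.ΓSpecIso (CommRingCat.of A)).inv.hom
  let e : R ≃ₗ[R] L.presheaf.stalk x :=
    LinearEquiv.ofBijective (LinearMap.toSpanSingleton R _ (L.presheaf.germ ⊤ x trivial (s j))) hj
  let c : Fin (N + 1) → R := fun i => e.symm (L.presheaf.germ ⊤ x trivial (s i))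
  letI : Algebra A R := ρ₀.toAlgebra
  let κ := IsLocalRing.ResidueField R
  letI : Algebra A κ := ((IsLocalRing.residue R).comp ρ₀).toAlgebra
  let ψ : (Fin (N + 1) → A) →ₗ[A] κ := Fintype.linearCombination A fun i => IsLocalRing.residue R (c i)
  refine ⟨LinearMap.ker ψ, fun h => ?_, fun a ha => ?_⟩
  · have h1 : ψ (Pi.single j 1) = 0 := LinearMap.mem_ker.1 (h ▸ Submodule.mem_top)
    simp only [ψ, Fintype.linearCombination_apply_single, one_smul] at h1
    have hc : c j = 1 := e.injective (by
      show e (e.symm _) = e 1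
      rw [LinearEquiv.apply_symm_apply]
      exact (one_smul R _).symm)
    rw [hc, map_one] at h1
    exact one_ne_zero h1
  · have hsum : L.presheaf.germ ⊤ x trivial
        (∑ i, f.appTop ((Scheme.ΓSpecIso (CommRingCat.of A)).inv (a i)) • s i) = e (∑ i, ρ₀ (a i) * c i) := by
      rw [map_sum, map_sum]
      refine Finset.sum_congr rfl fun i _ => ?_
      rw [AmpleLib.germ_smul]
      refine Eq.trans ?_ (e.map_smul (ρ₀ (a i)) (c i)).symm
      rw [show e (c i) = L.presheaf.germ ⊤ x trivial (s i) from e.apply_symm_apply _]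
      rfl
    have hu : IsUnit (∑ i, ρ₀ (a i) * c i) := by
      by_contra hn
      refine ha (LinearMap.mem_ker.2 ?_)
      show ψ a = 0
      have : IsLocalRing.residue R (∑ i, ρ₀ (a i) * c i) = 0 :=
        (IsLocalRing.residue_eq_zero_iff _).2 hn
      rw [map_sum] at this
      refine Eq.trans ?_ this
      simp only [ψ, Fintype.linearCombination_apply, Algebra.smul_def, map_mul]
      rfl
    show Function.Bijective fun r : R => r • L.presheaf.germ ⊤ x trivial _
    rw [hsum]
    refine (show (fun r : R => r • e (∑ i, ρ₀ (a i) * c i)) = fun r => e (r * ∑ i, ρ₀ (a i) * c i) from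
      funext fun r => (e.map_smul r _).symm) ▸ ?_
    exact e.bijective.comp hu.unit.mulRight.bijective

/-- finitely many proper submodules do not cover a free module over a local ring with infinite residue field -/
theorem exists_avoid {A : Type u} [CommRing A] [IsLocalRing A] (hA : Infinite (IsLocalRing.ResidueField A))
    {N : ℕ} {ι : Type*} [Finite ι] (S : ι → Submodule A (Fin (N + 1) → A)) (hS : ∀ i, S i ≠ ⊤) :
    ∃ a, ∀ i, a ∉ S i := by
  let k := IsLocalRing.ResidueField A
  let π : (Fin (N + 1) → A) →ₗ[A] (Fin (N + 1) → k) :=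
    { toFun := fun a i => IsLocalRing.residue A (a i)
      map_add' := fun a b => funext fun i => map_add _ _ _
      map_smul' := fun r a => funext fun i => by
        simp only [RingHom.id_apply, Pi.smul_apply, smul_eq_mul, map_mul, Algebra.smul_def]
        rfl }
  have hπ : Function.Surjective π := fun y => by
    choose a ha using fun i => IsLocalRing.residue_surjective (y i)
    exact ⟨a, funext ha⟩
  let T : ι → Submodule k (Fin (N + 1) → k) := fun i =>
    { carrier := (S i).map π
      add_mem' := fun h h' => add_mem h h'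
      zero_mem' := zero_mem _
      smul_mem' := fun r y hy => by
        obtain ⟨r', rfl⟩ := IsLocalRing.residue_surjective r
        have := ((S i).map π).smul_mem r' hy
        have e : IsLocalRing.residue A r' • y = r' • y := funext fun i => by
          show IsLocalRing.residue A r' * y i = r' • y i
          rw [Algebra.smul_def]
          rfl
        show _ ∈ (S i).map π
        rw [e]
        exact this }
  have hT : ∀ i, T i ≠ ⊤ := fun i h => hS i (top_le_iff.1
    (Submodule.le_of_le_smul_of_le_jacobson_bot (Module.Finite.fg_top) (IsLocalRing.maximalIdeal_le_jacobson ⊥)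
      fun x _ => by
        obtain ⟨y, hy, hxy⟩ : π x ∈ (S i).map π := (h ▸ Submodule.mem_top : π x ∈ T i)
        refine Submodule.mem_sup.2 ⟨y, hy, x - y, ?_, add_sub_cancel y x⟩
        have h0 : ∀ j, (x - y) j ∈ IsLocalRing.maximalIdeal A := fun j => by
          rw [← IsLocalRing.residue_eq_zero_iff, Pi.sub_apply, map_sub, sub_eq_zero]
          exact (congrFun hxy j).symm
        rw [pi_eq_sum_univ' (x - y)]
        exact Submodule.sum_mem _ fun j _ => Submodule.smul_mem_smul (h0 j) Submodule.mem_top))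
  obtain ⟨y, hy⟩ := Submodule.exists_forall_notMem_of_forall_ne_top T hT
  obtain ⟨a, rfl⟩ := hπ y
  exact ⟨a, fun i hi => hy i ⟨a, hi, rfl⟩⟩

/-- a regular combination -/
theorem exists_regular_comb {A : Type u} [CommRing A] [IsLocalRing A] (hA : Infinite (IsLocalRing.ResidueField A))
    [AlgebraicGeometry.IsNoetherian V] (f : V ⟶ Spec (CommRingCat.of A))
    (L : V.Modules) (hL : PicF.IsInvertible L) {N : ℕ} (s : Fin (N + 1) → Γ(L, (⊤ : V.Opens)))
    (hgen : ∀ x : V, ∃ i, AmpleLib.GenAt L (s i) (show x ∈ (⊤ : V.Opens) from trivial))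
    {m : ℕ} (F : Fin m → V.Modules) (hF : ∀ j, Coh.IsCoh (F j)) :
    ∃ a : Fin (N + 1) → A, ∀ j, Mono (((DCoh.tensorBi (X := V)).obj (F j)).map
      (QCohLib.unitHom L (∑ i, f.appTop ((Scheme.ΓSpecIso (CommRingCat.of A)).inv (a i)) • s i))) ∧
      Mono (((DCoh.tensorBi (X := V)).map
      (QCohLib.unitHom L (∑ i, f.appTop ((Scheme.ΓSpecIso (CommRingCat.of A)).inv (a i)) • s i))).app (F j)) := by
  let B : Set V := {x | ∃ j, Curv2.IsWeakAssPoint (F j) x}
  have hB : B.Finite := by
    have : ∀ j, {x : V | x ∈ (⊤ : V.Opens) ∧ Curv2.IsWeakAssPoint (F j) x}.Finite := fun j =>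
      haveI := (hF j).1
      AssPointLib.finite_assPoints (hF j).2 ⊤ isCompact_univ
    exact (Set.finite_iUnion this).subset fun x ⟨j, hj⟩ => Set.mem_iUnion.2 ⟨j, trivial, hj⟩
  choose S hS hS' using fun x : B => exists_bad_submodule f hL s x.1 (hgen x.1)
  haveI := hB.to_subtype
  obtain ⟨a, ha⟩ := exists_avoid hA S hS
  refine ⟨a, fun j => ?_⟩
  haveI := (hF j).1
  let σ := ∑ i, f.appTop ((Scheme.ΓSpecIso (CommRingCat.of A)).inv (a i)) • s i
  obtain ⟨W, -, hW⟩ := EGA2SymLib.exists_genLocus hL σ
  suffices h : ∀ x, Curv2.IsWeakAssPoint (F j) x → x ∈ CohB1.genLocus L (QCohLib.unitHom L σ) from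
    ⟨mono_tensor_of_weak (F j) L hL _ h, mono_tensor_left_of_weak (F j) L hL _ h⟩
  intro x hx
  rw [AmpleLib.genLocus_eq σ W fun y => (hW y trivial).symm, SetLike.mem_coe.symm]
  exact (hW x trivial).2 (hS' ⟨x, j, hx⟩ a (ha _))

end RegSecLib

end
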